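import Groth.Agent.Lib.EtStalk.Flasque
import Groth.Agent.Lib.NormSep24.Vanish

/-! Direct images preserve cohomologically flasque sheaves. -/

universe u

open CategoryTheory CategoryTheory.Limits AlgebraicGeometry Opposite CategoryTheory.Abelian
open Groth.Agent.EtStalk

namespace Groth.Agent.EtFlasque24

variable {X Y : Scheme.{u}}

/-- Cohomology vanishes in positive degrees over every étale scheme. -/
def Acyc (F : EtCoh.Ab X) : Prop :=
  ∀ (W : X.Etale) (q : ℕ), 0 < q → Subsingleton (EtCoh.H W.left ((EtCoh.pull W.hom).obj F) q)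

lemma subsingleton_ext {F : EtCoh.Ab X} (h : Acyc F) {U : Scheme.{u}} (j : U ⟶ X) [Etale j] (q : ℕ) :
    Subsingleton (Ext (zExt j) F (q + 1)) :=
  @Equiv.subsingleton _ _ (extCohEquiv j F (q + 1)).toEquiv (h (Scheme.Etale.mk j) (q + 1) q.succ_pos)

lemma acyc_quotient {S : ShortComplex (EtCoh.Ab X)} (hS : S.ShortExact) (h₁ : Acyc S.X₁)
    [Injective S.X₂] : Acyc S.X₃ := by
  intro W q hq
  obtain ⟨q, rfl⟩ := Nat.exists_eq_succ_of_ne_zero hq.ne'
  let g : W.left ⟶ X := W.hom
  haveI : AlgebraicGeometry.Etale g := W.prop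
  haveI := subsingleton_ext h₁ g (q + 1)
  suffices H : ∀ z : Ext (zExt g) S.X₃ (q + 1), z = 0 by
    haveI : Subsingleton (Ext (zExt g) S.X₃ (q + 1)) := ⟨fun a b => (H a).trans (H b).symm⟩
    exact (extCohEquiv g S.X₃ (q + 1)).symm.toEquiv.subsingleton
  intro z
  obtain ⟨y, rfl⟩ := Ext.covariant_sequence_exact₃ _ hS z rfl (Subsingleton.elim _ _)
  rw [Ext.eq_zero_of_injective y, Ext.zero_comp]

lemma surjective_app_of_acyc {S : ShortComplex (EtCoh.Ab X)} (hS : S.ShortExact) (h₁ : Acyc S.X₁)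
    (V : X.Etale) : Function.Surjective (S.g.hom.app (op V)) := by
  let g : V.left ⟶ X := V.hom
  haveI : AlgebraicGeometry.Etale g := V.prop
  have h := surjective_sections_of_H_one g hS (h₁ V 1 one_pos)
  let e : (EtShriek.compEtale g).obj (EtCoh.top V.left) ≅ V :=
    MorphismProperty.Over.isoMk (Iso.refl _) (by
      show 𝟙 _ ≫ g = 𝟙 _ ≫ g
      rfl)
  intro s
  obtain ⟨t, ht⟩ := h (S.X₃.obj.map e.hom.op s)
  refine ⟨S.X₂.obj.map e.inv.op t, ?_⟩
  rw [NatTrans.naturality_apply, ht, ← Functor.map_comp_apply, ← op_comp, e.inv_hom_id, op_id,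
    Functor.map_id_apply]

lemma secOf_injective {U : Scheme.{u}} (j : U ⟶ Y) [Etale j] (G : EtCoh.Ab Y) :
    Function.Injective (secOf j G) := fun _ _ h =>
  ((EtShriek.extZeroAdj j).homEquiv _ _).injective (const_hom_ext h)

variable (f : X ⟶ Y)

lemma shortExact_push {S : ShortComplex (EtCoh.Ab X)} (hS : S.ShortExact) (h₁ : Acyc S.X₁) :
    (S.map (EtCoh.push f)).ShortExact := by
  haveI := hS.mono_f
  haveI : PreservesLimitsOfSize.{0, 0} (EtCoh.push f) := (EtCoh.pullPushAdj f).rightAdjoint_preservesLimits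
  haveI : PreservesFiniteLimits (EtCoh.push f) := PreservesLimitsOfSize.preservesFiniteLimits _
  haveI : Epi (S.map (EtCoh.push f)).g := by
    rw [← Sheaf.isLocallySurjective_iff_epi']
    refine ⟨fun {V} s => ?_⟩
    obtain ⟨t, ht⟩ := surjective_app_of_acyc hS h₁ ((EtCoh.bc f).obj V) s
    convert (Y.smallEtaleTopology).top_mem V using 1
    ext W i
    exact ⟨fun _ => trivial, fun _ => ⟨((EtCoh.push f).obj S.X₂).obj.map i.op t, by
      erw [NatTrans.naturality_apply ((EtCoh.push f).map S.g).hom i.op t]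
      exact congrArg (((EtCoh.push f).obj S.X₃).obj.map i.op) ht⟩⟩
  exact { exact := hS.exact.map_of_mono_of_preservesKernel _ hS.mono_f inferInstance
          mono_f := inferInstanceAs (Mono ((EtCoh.push f).map S.f)) }

theorem subsingleton_ext_push : ∀ (q : ℕ) (F : EtCoh.Ab X), Acyc F → ∀ {U : Scheme.{u}} (j : U ⟶ Y)
    [Etale j], Subsingleton (Ext (zExt j) ((EtCoh.push f).obj F) (q + 1))
  | 0, F, hF, U, j, hj => by
    have hS₀ := NormSep24.injSeq_shortExact F
    have hS := shortExact_push f hS₀ hF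
    haveI : Injective ((NormSep24.injSeq F).map (EtCoh.push f)).X₂ :=
      injective_push f (NormSep24.injSeq F).X₂
    suffices H : ∀ z : Ext (zExt j) ((NormSep24.injSeq F).map (EtCoh.push f)).X₁ 1, z = 0 from
      ⟨fun a b => (H a).trans (H b).symm⟩
    intro z
    obtain ⟨w, rfl⟩ := Ext.covariant_sequence_exact₁ (zExt j) hS z (Ext.eq_zero_of_injective _)
      (n₀ := 0) rfl
    obtain ⟨φ, rfl⟩ := (Ext.mk₀_bijective _ _).2 w
    obtain ⟨t, ht⟩ := surjective_app_of_acyc hS₀ hF ((EtCoh.bc f).obj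
      ((EtShriek.compEtale j).obj (EtCoh.top U))) (secOf j _ φ)
    obtain ⟨ψ, hψ⟩ := secOf_surjective j ((NormSep24.injSeq F).map (EtCoh.push f)).X₂ t
    have e : φ = ψ ≫ ((NormSep24.injSeq F).map (EtCoh.push f)).g := secOf_injective j _ (by
      rw [secOf_comp, hψ]; exact ht.symm)
    rw [e, ← Ext.mk₀_comp_mk₀, Ext.comp_assoc_of_second_deg_zero, hS.comp_extClass, Ext.comp_zero]
  | q + 1, F, hF, U, j, hj => by
    have hS₀ := NormSep24.injSeq_shortExact F
    have hS := shortExact_push f hS₀ hF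
    haveI : Injective ((NormSep24.injSeq F).map (EtCoh.push f)).X₂ :=
      injective_push f (NormSep24.injSeq F).X₂
    have hQ := subsingleton_ext_push q (NormSep24.injSeq F).X₃ (acyc_quotient hS₀ hF) j
    suffices H : ∀ z : Ext (zExt j) ((NormSep24.injSeq F).map (EtCoh.push f)).X₁ (q + 1 + 1), z = 0 from
      ⟨fun a b => (H a).trans (H b).symm⟩
    intro z
    obtain ⟨w, rfl⟩ := Ext.covariant_sequence_exact₁ (zExt j) hS z (Ext.eq_zero_of_injective _)
      (n₀ := q + 1) rfl
    haveI : Subsingleton (Ext (zExt j) ((NormSep24.injSeq F).map (EtCoh.push f)).X₃ (q + 1)) := hQ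
    rw [Subsingleton.elim w 0, Ext.zero_comp]

theorem acyc_push {F : EtCoh.Ab X} (hF : Acyc F) : Acyc ((EtCoh.push f).obj F) := by
  intro W q hq
  obtain ⟨q, rfl⟩ := Nat.exists_eq_succ_of_ne_zero hq.ne'
  let g : W.left ⟶ Y := W.hom
  haveI : AlgebraicGeometry.Etale g := W.prop
  haveI := subsingleton_ext_push f q F hF g
  exact (extCohEquiv g _ (q + 1)).symm.toEquiv.subsingleton

end Groth.Agent.EtFlasque24
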